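import Cfsg.Agent.Lib.Sporadic.Spider.Setup

/-!
Maps out of a presented group given by renaming its letters.
-/
set_option autoImplicit false

namespace CfsgLib.Sporadic.Spider

open CfsgLib.Presented Cfsg.Spor

variable {α : Type} [DecidableEq α] {L : Letters α} {edges : List (α × ℕ × α)} {extra : List (FreeGroup α)}
  {G : Type*} [Group G] {A : Alphabet} {e : ℕ → G} {known : List (List ℕ)}

/-- all letters are positive and involutory, and the renamed relators are known words -/
noncomputable def renameOK (L : Letters α) (edges : List (α × ℕ × α)) (xw : List (List ℕ)) (A : Alphabet)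
    (known : List (List ℕ)) (τ : List ℕ) : Bool :=
  ((List.range L.A.eps).all fun x => (L.gen x).2 && Nat.beq (L.idx (L.gen x).1) x &&
      Nat.blt (τ.getD x A.eps) A.eps && Nat.beq (A.invl (τ.getD x A.eps)) (τ.getD x A.eps)) &&
    ((L.coxWords edges ++ xw).all fun w => (w.all fun x => Nat.blt x L.A.eps) &&
      known.contains (w.map fun x => τ.getD x A.eps))

theorem exists_rename (hv : L.valid = true) (hn : L.nodesValid edges = true) (hfull : L.Full)
    {xw : List (List ℕ)} (hxw : L.extraWords extra = xw)
    (hA : A.Good e) (hknown : ∀ w ∈ known, evW e w = 1) {τ : List ℕ}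
    (h : renameOK L edges xw A known τ = true) :
    ∃ φ : CoxPresented α edges extra →* G, ∀ w : List ℕ, (∀ x ∈ w, x < L.A.eps) →
      φ (evW (L.ev fun g => (PresentedGroup.of g : CoxPresented α edges extra)) w) =
        evW e (w.map fun x => τ.getD x A.eps) := by
  simp only [renameOK, Bool.and_eq_true, List.all_eq_true, List.mem_range, Nat.blt_eq,
    List.contains_iff_mem] at h
  obtain ⟨hl, hw⟩ := h
  let f : α → G := fun g => e (τ.getD (L.idx g) A.eps)
  have hev : ∀ x, x < L.A.eps → L.ev f x = e (τ.getD x A.eps) := by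
    intro x hx
    simp only [Letters.ev, if_pos hx, (hl x hx).1.1.1, cond_true, f]
    rw [Nat.eq_of_beq_eq_true (hl x hx).1.1.2]
  have hevW : ∀ w : List ℕ, (∀ x ∈ w, x < L.A.eps) → evW (L.ev f) w = evW e (w.map fun x => τ.getD x A.eps) := by
    intro w hw'
    rw [evW_map]
    exact congrArg List.prod (List.map_congr_left fun x hx => hev x (hw' x hx))
  have hf : ∀ g ∈ L.nodes, f g * f g = 1 := by
    intro g _
    have h1 := hl _ (hfull g).1
    have h2 := hA.inv _ h1.1.2.le
    rwa [Nat.eq_of_beq_eq_true h1.2] at h2
  have hrel : ∀ w ∈ L.coxWords edges ++ xw, evW (L.ev f) w = 1 := by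
    intro w hw'
    rw [hevW w (hw w hw').1]
    exact hknown _ (hw w hw').2
  refine ⟨PresentedGroup.toGroup (Letters.kills hv hn hfull hf
    (fun w hw' => hrel w (List.mem_append.2 (Or.inl hw')))
    (fun w hw' => hrel w (List.mem_append.2 (Or.inr (hxw ▸ hw'))))), fun w hw' => ?_⟩
  rw [← hevW w hw', evW, map_list_prod, List.map_map, evW]
  refine congrArg List.prod (List.map_congr_left fun x hx => ?_)
  simp only [Function.comp_apply, Letters.ev, if_pos (hw' x hx), (hl x (hw' x hx)).1.1.1, cond_true]
  exact PresentedGroup.toGroup.of _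

end CfsgLib.Sporadic.Spider
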