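import Cfsg.Agent.Lib.Sporadic.Spider.Centre
import Cfsg.Agent.Lib.Sporadic.Spider.Hom

/-!
The central involutions of the sub-diagrams of type E7 inside Y(5,2,3) with the spider relation.
-/
set_option autoImplicit false
set_option maxRecDepth 8000

namespace CfsgLib.Sporadic.Spider

open CfsgLib.Presented CfsgLib.CoxeterFinite Cfsg.Spor

/-- the word with arms of lengths 3, 2, 1 on the arms 1, 2, 3 -/
def z12 : List ℕ := wpow [0, 1, 6, 8, 2, 7, 3] 9
/-- the word with arms of lengths 3, 1, 2 on the arms 1, 2, 3 -/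
def z13 : List ℕ := wpow [0, 1, 8, 6, 2, 9, 3] 9
/-- the word with arms of lengths 2, 1, 3 on the arms 1, 2, 3 -/
def z31 : List ℕ := wpow [0, 8, 1, 6, 9, 2, 10] 9
/-- the word with arms of lengths 1, 2, 3 on the arms 1, 2, 3 -/
def z32 : List ℕ := wpow [0, 8, 6, 1, 9, 7, 10] 9

/-- the nodes of the four sub-diagrams -/
def s12 : List ℕ := [7, 8, 6, 0, 1, 2, 3]
/-- see `s12` -/
def s13 : List ℕ := [9, 6, 8, 0, 1, 2, 3]
/-- see `s12` -/
def s31 : List ℕ := [2, 6, 1, 0, 8, 9, 10]
/-- see `s12` -/
def s32 : List ℕ := [7, 1, 6, 0, 8, 9, 10]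

theorem s12_ok : embOK alphabet (turns alphabet relWords) s12 = true := by decide +kernel
theorem s13_ok : embOK alphabet (turns alphabet relWords) s13 = true := by decide +kernel
theorem s31_ok : embOK alphabet (turns alphabet relWords) s31 = true := by decide +kernel
theorem s32_ok : embOK alphabet (turns alphabet relWords) s32 = true := by decide +kernel

theorem z12_eq : z12 = zWord.map fun a => s12.getD a 0 := by decide +kernel
theorem z13_eq : z13 = zWord.map fun a => s13.getD a 0 := by decide +kernel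
theorem z31_eq : z31 = zWord.map fun a => s31.getD a 0 := by decide +kernel
theorem z32_eq : z32 = zWord.map fun a => s32.getD a 0 := by decide +kernel

theorem arm_eq : evW ev z13 = evW ev z12 ∧ evW ev z32 = evW ev z31 := by
  have key : ∀ τ : List ℕ, renameOK kLetters kEdges [wpow [0, 1, 2, 0, 4, 5, 0, 6, 7] 10] alphabet
      (turns alphabet relWords) τ = true →
      evW ev (kz13.map fun x => τ.getD x 11) = evW ev (kz12.map fun x => τ.getD x 11) := by
    intro τ hτ
    obtain ⟨φ, hφ⟩ := exists_rename kLetters_valid kNodes_valid kFull kExtraWords_eq good turnsP hτ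
    refine (hφ kz13 (by decide +kernel)).symm.trans ?_
    refine Eq.trans ?_ (hφ kz12 (by decide +kernel))
    exact congrArg φ kz13_eq
  have h1 := key [0, 1, 2, 3, 6, 7, 8, 9] (by decide +kernel)
  have h2 := key [0, 8, 9, 10, 1, 2, 6, 7] (by decide +kernel)
  rw [show (kz13.map fun x => [0, 1, 2, 3, 6, 7, 8, 9].getD x 11) = z13 by decide +kernel,
    show (kz12.map fun x => [0, 1, 2, 3, 6, 7, 8, 9].getD x 11) = z12 by decide +kernel] at h1
  rw [show (kz13.map fun x => [0, 8, 9, 10, 1, 2, 6, 7].getD x 11) = z32 by decide +kernel,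
    show (kz12.map fun x => [0, 8, 9, 10, 1, 2, 6, 7].getD x 11) = z31 by decide +kernel] at h2
  exact ⟨h1, h2⟩

/-- commutation with a word -/
theorem word_comm {G : Type*} [Group G] {e : ℕ → G} {w : List ℕ} {g : G} (h : ∀ y ∈ w, Commute g (e y)) :
    Commute g (evW e w) := by
  refine Commute.list_prod_right _ _ fun a ha => ?_
  obtain ⟨y, hy, rfl⟩ := List.mem_map.1 ha
  exact h y hy

theorem commute_far {x : ℕ} {w : List ℕ} (hx : x < 11)
    (h : (w.all fun y => Nat.blt y 11 && (turns alphabet relWords).contains [x, y, x, y]) = true) :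
    Commute (ev x) (evW ev w) := by
  refine word_comm fun y hy => ?_
  have := List.all_eq_true.1 h y hy
  rw [Bool.and_eq_true, Nat.blt_eq] at this
  exact ev_comm hx this.1 this.2

theorem z_comm_letter {σ : List ℕ} (hσ : embOK alphabet (turns alphabet relWords) σ = true)
    {w : List ℕ} (hw : w = zWord.map fun a => σ.getD a 0) {x : ℕ} (hx : x ∈ σ) (hlen : σ.length = 7) :
    Commute (ev x) (evW ev w) := by
  obtain ⟨a, ha, rfl⟩ := List.getElem_of_mem hx
  have h := z_comm good turnsP hσ (a := a) (by omega)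
  rw [List.getD_eq_getElem _ _ ha, ← hw] at h
  exact h.symm

theorem z12_comm {x : ℕ} (hx : x ∈ [0, 1, 2, 3, 5, 6, 7, 8, 9, 10]) : Commute (ev x) (evW ev z12) := by
  simp only [List.mem_cons, List.not_mem_nil, or_false] at hx
  rcases hx with rfl | rfl | rfl | rfl | rfl | rfl | rfl | rfl | rfl | rfl
  all_goals first
    | exact z_comm_letter s12_ok z12_eq (by decide) rfl
    | exact commute_far (by omega) (by decide +kernel)
    | (rw [← arm_eq.1]; exact z_comm_letter s13_ok z13_eq (by decide) rfl)

theorem z31_comm {x : ℕ} (hx : x < 11) : Commute (ev x) (evW ev z31) := by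
  have : x = 0 ∨ x = 1 ∨ x = 2 ∨ x = 3 ∨ x = 4 ∨ x = 5 ∨ x = 6 ∨ x = 7 ∨ x = 8 ∨ x = 9 ∨ x = 10 := by omega
  rcases this with rfl | rfl | rfl | rfl | rfl | rfl | rfl | rfl | rfl | rfl | rfl
  all_goals first
    | exact z_comm_letter s31_ok z31_eq (by decide) rfl
    | (rw [← arm_eq.2]; exact z_comm_letter s32_ok z32_eq (by decide) rfl)
    | (rw [← arm_eq.2]; exact commute_far (by omega) (by decide +kernel))

theorem z_sq {σ : List ℕ} (hσ : embOK alphabet (turns alphabet relWords) σ = true)
    {w : List ℕ} (hw : w = zWord.map fun a => σ.getD a 0) : evW ev w * evW ev w = 1 := by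
  have h := map_eq good turnsP hσ (u := zWord ++ zWord) (v := []) (by decide +kernel)
  rw [List.map_append, evW_append, ← hw] at h
  exact h.trans (by simp)

end CfsgLib.Sporadic.Spider
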