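import Cfsg.Agent.Lib.Sporadic.Spider.CentreACheck0
import Cfsg.Agent.Lib.Sporadic.Spider.CentreACheck1
import Cfsg.Agent.Lib.Sporadic.Spider.CentreACheck2

/-! Generated proof that a word fixes the base coset. -/
set_option autoImplicit false
set_option maxRecDepth 8000

namespace CfsgLib.Sporadic.Spider.CentreA

open CfsgLib.Presented

theorem enum_valid : enum.valid = true := by decide +kernel

theorem facts_ok : enum.OKOn 0 17500 :=
  (Enum.OKOn.append (Enum.OKOn.append part_0 part_1) part_2)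

/-- the word fixing the base coset -/
def word0 : List ℕ := [0, 4, 3, 5, 6, 1, 7, 0, 4, 3, 5, 6, 1, 7, 0, 4, 3, 5, 6, 1, 7, 0, 4, 3, 5, 6, 1, 7, 0, 4, 3, 5, 6, 1, 7, 0, 4, 3, 5, 6, 1, 7, 0, 4, 3, 5, 6, 1, 7, 0, 4, 3, 5, 6, 1, 7, 0, 4, 3, 5, 6, 1, 7]

theorem loop0 {G : Type*} [Group G] {X : Type*} [MulAction G X] {ev : ℕ → G} {base : X}
    (hI : enum.Interp ev base) : evW ev word0 • base = base := by
  obtain ⟨s', hs⟩ := Option.isSome_iff_exists.1
    (show (enum.chkPath 17500 0 0 0x100000f00004800014000064000b0000084000b6000348000b8000360000e200028002146008d40020ea008470002620009bc03e600005b803cff00fde8077b301eff0087850220700889c0222b0088b60220900881e01f2ac0864001efd807b2a01ecc80440600fdb003d8000f90800257000670001a4000658000e000039000022000080000aa000068000ac0002b8000180000580001e0000400000e000028000020000180000c0000000003f [7, 1, 6, 5, 3, 4, 0, 7, 1, 6, 5, 3, 4, 0, 7, 1, 6, 5, 3, 4, 0, 7, 1, 6, 5, 3, 4, 0, 7, 1, 6, 5, 3, 4, 0, 7, 1, 6, 5, 3,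 4, 0, 7, 1, 6, 5, 3, 4, 0, 7, 1, 6, 5, 3, 4, 0, 7, 1, 6, 5, 3, 4, 0]).isSome = true by decide +kernel)
  exact Enum.loop enum_valid hI facts_ok hs

end CfsgLib.Sporadic.Spider.CentreA
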