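import Cfsg.Agent.Lib.Sporadic.Spider.Weyl
import Cfsg.Agent.Lib.Sporadic.Spider.CentreASeed

/-!
In the group on the nodes of Y(3,2,2) with the spider relation, the central involutions of the two
sub-diagrams of type E7 coincide.
-/
set_option autoImplicit false
set_option maxRecDepth 8000

namespace CfsgLib.Sporadic.Spider

open CfsgLib.Presented CfsgLib.CoxeterFinite Cfsg.Spor

/-- the E7 nodes inside Y(3,2,2) avoiding `c3` -/
def kSigma : List ℕ := [5, 6, 4, 0, 1, 2, 3]

/-- the word of the first central involution -/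
def kz12 : List ℕ := wpow [0, 1, 4, 6, 2, 5, 3] 9

/-- the word of the second central involution -/
def kz13 : List ℕ := wpow [0, 1, 6, 4, 2, 7, 3] 9

theorem kSigma_ok : embOK kAlphabet (turns kAlphabet kRelWords) kSigma = true := by decide +kernel

theorem kz12_eq : kz12 = zWord.map fun a => kSigma.getD a 0 := by decide +kernel

/-- The map of the Weyl group. -/
noncomputable abbrev psi : W →* K := weylHom kGood turnsK kSigma_ok

/-- the table step -/
noncomputable def pstep (x i : ℕ) : ℕ := (tabOf x).get 10 i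

theorem pstep_ok : ((List.range 8).all fun x => (List.range 702).all fun i =>
    Nat.blt (pstep x i) 702 && Nat.beq (pstep x (pstep x i)) i) = true := by decide +kernel

theorem pstep_spec {x i : ℕ} (hx : x < 8) (hi : i < 702) : pstep x i < 702 ∧ pstep x (pstep x i) = i := by
  have := List.all_eq_true.1 (List.all_eq_true.1 pstep_ok x (List.mem_range.2 hx)) i (List.mem_range.2 hi)
  rw [Bool.and_eq_true, Nat.blt_eq] at this
  exact ⟨this.1, Nat.eq_of_beq_eq_true this.2⟩

theorem kIdx_lt (g : KNode) : kIdx g < 8 := by cases g <;> decide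

/-- the permutation of a node -/
noncomputable def nodePerm (g : KNode) : Equiv.Perm (Fin 702) :=
  Function.Involutive.toPerm (fun i => ⟨pstep (kIdx g) i, (pstep_spec (kIdx_lt g) i.2).1⟩)
    (fun i => Fin.ext (pstep_spec (kIdx_lt g) i.2).2)

/-- the walk of a word on the table -/
noncomputable def walkWord (w : List ℕ) (i : ℕ) : ℕ := w.foldr pstep i

theorem evW_nodePerm : ∀ {w : List ℕ}, (∀ x ∈ w, x < 8) → ∀ i : Fin 702,
    ((evW (kLetters.ev nodePerm) w i : Fin 702) : ℕ) = walkWord w i
  | [], _, i => rfl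
  | x :: w, h, i => by
    have hx := h x List.mem_cons_self
    have ih := evW_nodePerm (fun y hy => h y (List.mem_cons_of_mem _ hy)) i
    have e : kIdx (kNodeOf x).1 = x ∧ (kNodeOf x).2 = true := by
      have : x = 0 ∨ x = 1 ∨ x = 2 ∨ x = 3 ∨ x = 4 ∨ x = 5 ∨ x = 6 ∨ x = 7 := by omega
      rcases this with rfl | rfl | rfl | rfl | rfl | rfl | rfl | rfl <;> decide
    rw [evW_cons, Equiv.Perm.mul_apply]
    simp only [walkWord, List.foldr_cons] at ih ⊢
    rw [← ih]
    simp only [Letters.ev, kLetters, kAlphabet, if_pos hx, e.2, cond_true]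
    show pstep (kIdx (kNodeOf x).1) _ = _
    rw [e.1]

theorem rels_walk : (kRelWords.all fun w => (w.all fun x => Nat.blt x 8) &&
    (List.range 702).all fun i => Nat.beq (walkWord w i) i) = true := by decide +kernel

theorem rho_kills : ∀ r ∈ coxRelators kEdges ∪ {r | r ∈ kExtra}, FreeGroup.lift nodePerm r = 1 := by
  have key : ∀ w ∈ kRelWords, evW (kLetters.ev nodePerm) w = 1 := by
    intro w hw
    have h := List.all_eq_true.1 rels_walk w hw
    simp only [Bool.and_eq_true, List.all_eq_true, Nat.blt_eq, List.mem_range] at h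
    refine Equiv.ext fun i => Fin.ext ?_
    rw [evW_nodePerm h.1]
    exact Nat.eq_of_beq_eq_true (h.2 i i.2)
  refine Letters.kills kLetters_valid kNodes_valid kFull (fun g _ => ?_) (fun w hw => key w ?_) fun w hw => key w ?_
  · refine Equiv.ext fun i => ?_
    simp [nodePerm, Function.Involutive.toPerm, Fin.ext_iff, (pstep_spec (kIdx_lt g) i.2).2]
  · exact List.mem_append.2 (Or.inl hw)
  · rw [kExtraWords_eq] at hw
    exact List.mem_append.2 (Or.inr hw)

/-- The action on 702 points. -/
noncomputable def rho : K →* Equiv.Perm (Fin 702) := PresentedGroup.toGroup rho_kills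

theorem rho_word {w : List ℕ} (hw : ∀ x ∈ w, x < 8) (i : Fin 702) :
    ((rho (evW kev w) i : Fin 702) : ℕ) = walkWord w i := by
  rw [← evW_nodePerm hw i, evW, map_list_prod, List.map_map, evW]
  rw [List.map_congr_left (f := ⇑rho ∘ kev) (g := kLetters.ev nodePerm) fun x hx => ?_]
  simp only [Function.comp_apply, kev, Letters.ev, kLetters, kAlphabet, if_pos (hw x hx)]
  cases (kNodeOf x).2 <;> simp [rho, PresentedGroup.toGroup.of, hw x hx]

/-- a root as a vector -/
def rootVec (r : ℕ) : Fin 7 → ℤ := vec (rootList.getD r [])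

theorem compat_ok : ((List.range 7).all fun a => (List.range 126).all fun r =>
    Nat.blt (pstep (kSigma.getD a 0) r) 126 && decide ((rootList.getD r []).length = 7) &&
      lrefl 7 e7Cartan a (rootList.getD r []) == rootList.getD (pstep (kSigma.getD a 0) r) []) = true := by
  decide +kernel

theorem roots_nodup : (rootList.take 126).Nodup := by decide +kernel

theorem rootVec_len : ∀ r < 126, (rootList.getD r []).length = 7 := by
  intro r hr
  have h := List.all_eq_true.1 (List.all_eq_true.1 compat_ok 0 (by simp)) r (List.mem_range.2 hr)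
  simp only [Bool.and_eq_true, decide_eq_true_eq] at h
  exact h.1.2

theorem rho_psi (g : W) : ∀ r, (hr : r < 126) → ∃ r', r' < 126 ∧ wRep g (rootVec r) = rootVec r' ∧
    ((rho (psi g) ⟨r, by omega⟩ : Fin 702) : ℕ) = r' := by
  induction g using CoxeterMatrix.E₇.toCoxeterSystem.simple_induction_left with
  | one => exact fun r hr => ⟨r, hr, by simp, by simp⟩
  | mul_simple_left g i ih =>
    intro r hr
    obtain ⟨r', hr', hrep, hrho⟩ := ih r hr
    have h := List.all_eq_true.1 (List.all_eq_true.1 compat_ok i.1 (List.mem_range.2 i.2)) r' (List.mem_range.2 hr')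
    simp only [Bool.and_eq_true, decide_eq_true_eq, Nat.blt_eq, beq_iff_eq] at h
    obtain ⟨⟨hlt, hlen⟩, heq⟩ := h
    have hgen : CoxeterMatrix.E₇.toCoxeterSystem.simple i = wgen i.1 := by
      rw [wgen, CoxeterFinite.gen, dif_pos i.2]; rfl
    rw [hgen]
    refine ⟨_, hlt, ?_, ?_⟩
    · rw [map_mul, Module.End.mul_apply, hrep, reflRep_gen _ _ e7_rel _ i.2]
      apply List.ofFn_injective
      rw [ofFn_refl, rootVec, rootVec, ofFn_vec hlen, ofFn_vec (rootVec_len _ hlt)]
      exact heq
    · have hs : ((kSigma.getD i.1 0)) < 8 := by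
        have : ((List.range 7).all fun a => Nat.blt (kSigma.getD a 0) 8) = true := by decide +kernel
        have := List.all_eq_true.1 this i.1 (List.mem_range.2 i.2)
        rwa [Nat.blt_eq] at this
      rw [map_mul, map_mul, Equiv.Perm.mul_apply, weylHom_gen _ _ _ i.2]
      have hw : ∀ x ∈ [kSigma.getD i.1 0], x < 8 := fun x hx => by
        rw [List.mem_singleton.1 hx]; exact hs
      have h1 := rho_word hw (rho (psi g) ⟨r, by omega⟩)
      simp only [evW_cons, evW_nil, mul_one, walkWord, List.foldr_cons, List.foldr_nil] at h1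
      rw [h1, hrho]

theorem twiceWeights_ok : ∀ k : Fin 7, (2 : ℤ) • (Pi.single k 1 : Fin 7 → ℤ) =
    ∑ a : Fin 7, (twiceWeights.getD k.1 []).getD a.1 0 • rootVec a.1 := by decide +kernel

theorem eq_of_rho {g g' : W}
    (h : ∀ r : Fin 702, (r : ℕ) < 126 → rho (psi g) r = rho (psi g') r) : g = g' := by
  have hroot : ∀ r, r < 126 → wRep g (rootVec r) = wRep g' (rootVec r) := by
    intro r hr
    obtain ⟨s, -, hs, hs'⟩ := rho_psi g r hr
    obtain ⟨t, -, ht, ht'⟩ := rho_psi g' r hr
    rw [h ⟨r, by omega⟩ hr] at hs'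
    rw [hs, ht, ← hs', ← ht']
  apply e7_faithful
  refine LinearMap.pi_ext' fun k => LinearMap.ext_ring ?_
  have h2 := congrArg (wRep g) (twiceWeights_ok k)
  have h3 := congrArg (wRep g') (twiceWeights_ok k)
  rw [map_smul, map_sum] at h2 h3
  simp only [map_smul] at h2 h3
  rw [Finset.sum_congr rfl fun a _ => by rw [hroot a.1 (by omega)]] at h2
  exact smul_right_injective (Fin 7 → ℤ) (two_ne_zero (α := ℤ)) (h2.trans h3.symm)

theorem kz13_mem : evW kev kz13 ∈ genBy kev [0, 1, 2, 3, 4, 5, 6] := by
  have hI : CentreA.enum.Interp (subEv kev 8 (CentreA.emb.map fun x => [0, 1, 2, 3, 8, 8, 4, 5, 6, 7, 8, 8].getD x 8))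
      ((1 : K) : K ⧸ genBy kev [0, 1, 2, 3, 4, 5, 6]) :=
    Enum.interp_sub (A := kAlphabet) kev_one kev_inv (by decide +kernel) (by decide +kernel)
      (rels_of_check turnsK (by decide +kernel)) (subs_of_check (seeds := []) (by simp) (by decide +kernel))
  have h := mem_of_fix (CentreA.loop0 hI)
  rw [show subEv kev 8 (CentreA.emb.map fun x => [0, 1, 2, 3, 8, 8, 4, 5, 6, 7, 8, 8].getD x 8) =
    fun x => kev ((CentreA.emb.map fun x => [0, 1, 2, 3, 8, 8, 4, 5, 6, 7, 8, 8].getD x 8).getD x 8) from rfl,
    ← evW_map] at h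
  rwa [show (CentreA.word0.map fun x =>
    (CentreA.emb.map fun x => [0, 1, 2, 3, 8, 8, 4, 5, 6, 7, 8, 8].getD x 8).getD x 8) = kz13 by decide +kernel] at h

/-- The two central involutions agree. -/
theorem kz13_eq : evW kev kz13 = evW kev kz12 := by
  have hrange : evW kev kz13 ∈ psi.range := by
    rw [range_eq]
    refine SetLike.le_def.1 (Subgroup.closure_mono ?_) kz13_mem
    rintro _ ⟨x, hx, rfl⟩
    have hs : ([0, 1, 2, 3, 4, 5, 6].all fun x => (List.range 7).any fun a => Nat.beq (kSigma.getD a 0) x) = true := by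
      decide +kernel
    obtain ⟨a, ha, hax⟩ := List.any_eq_true.1 (List.all_eq_true.1 hs x hx)
    exact ⟨a, List.mem_range.1 ha, by rw [Nat.eq_of_beq_eq_true hax]⟩
  obtain ⟨g, hg⟩ := hrange
  have hz : psi (evW wgen zWord) = evW kev kz12 := by rw [kz12_eq, weylHom_word _ _ _ zWord_lt]
  rw [← hg, ← hz, eq_of_rho (g := g) (g' := evW wgen zWord) ?_]
  intro r hr
  apply Fin.ext
  rw [hg, hz, rho_word (by decide +kernel) r, rho_word (by decide +kernel) r]
  have h : ((List.range 126).all fun i => Nat.beq (walkWord kz13 i) (walkWord kz12 i)) = true := by decide +kernel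
  exact Nat.eq_of_beq_eq_true (List.all_eq_true.1 h r.1 (List.mem_range.2 hr))

end CfsgLib.Sporadic.Spider
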