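import Cfsg.Agent.Lib.Sporadic.Spider.EndNodeCheck0
import Cfsg.Agent.Lib.Sporadic.Spider.EndNodeCheck1
import Cfsg.Agent.Lib.Sporadic.Spider.EndNodeCheck2
import Cfsg.Agent.Lib.Sporadic.Spider.EndNodeCheck3
import Cfsg.Agent.Lib.Sporadic.Spider.EndNodeCheck4
import Cfsg.Agent.Lib.Sporadic.Spider.EndNodeCheck5
import Cfsg.Agent.Lib.Sporadic.Spider.EndNodeCheck6
import Cfsg.Agent.Lib.Sporadic.Spider.EndNodeCheck7

/-! Generated proof that a word fixes the base coset. -/
set_option autoImplicit false
set_option maxRecDepth 8000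

namespace CfsgLib.Sporadic.Spider.EndNode

open CfsgLib.Presented

theorem enum_valid : enum.valid = true := by decide +kernel

theorem facts_ok : enum.OKOn 0 114462 :=
  (Enum.OKOn.append (Enum.OKOn.append (Enum.OKOn.append (Enum.OKOn.append (Enum.OKOn.append (Enum.OKOn.append (Enum.OKOn.append part_0 part_1) part_2) part_3) part_4) part_5) part_6) part_7)

/-- the word fixing the base coset -/
def word0 : List ℕ := [1]

theorem loop0 {G : Type*} [Group G] {X : Type*} [MulAction G X] {ev : ℕ → G} {base : X}
    (hI : enum.Interp ev base) : evW ev word0 • base = base := by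
  obtain ⟨s', hs⟩ := Option.isSome_iff_exists.1
    (show (enum.chkPath 114462 0 0 0xdf8e800001 [1]).isSome = true by decide +kernel)
  exact Enum.loop enum_valid hI facts_ok hs

end CfsgLib.Sporadic.Spider.EndNode
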