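import Cfsg.Agent.Lib.Sporadic.Spider.Arms
import Cfsg.Agent.Lib.Sporadic.Spider.EndNodeSeed

/-!
The last node of the long arm lies in the subgroup generated by the other nodes.
-/
set_option autoImplicit false
set_option maxRecDepth 8000

namespace CfsgLib.Sporadic.Spider

open CfsgLib.Presented Cfsg.Spor

/-- the nodes other than the last one of the long arm -/
abbrev others : List ℕ := [0, 1, 2, 3, 4, 6, 7, 8, 9, 10]

/-- the cyclically reduced word of the equality of the two central involutions -/
noncomputable def eqCore : List ℕ :=
  (((pushAll alphabet (z13 ++ invWord alphabet z12) []).reverse).drop 2).dropLast.dropLast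

theorem eqCore_one : evW ev eqCore = 1 := by
  have hle : ∀ x ∈ z13 ++ invWord alphabet z12, x ≤ alphabet.eps := by decide +kernel
  have h1 := pushAll_ev good [] hle
  rw [evW_append, evW_invWord good (by decide +kernel), arm_eq.1, mul_inv_cancel,
    List.reverse_nil, evW_nil, one_mul] at h1
  rw [show (pushAll alphabet (z13 ++ invWord alphabet z12) []).reverse = [0, 1] ++ eqCore ++ [1, 0] by decide +kernel,
    evW_append, evW_append] at h1
  have h2 : evW ev [1, 0] = (evW ev [0, 1])⁻¹ := by
    rw [← evW_invWord good (by decide +kernel)]
    exact congrArg (evW ev) (by decide +kernel)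
  rwa [h2, conj_eq_one_iff] at h1

/-- The last node lies in the subgroup generated by the others. -/
theorem endNode_mem : ev 5 ∈ genBy ev others := by
  have hknown : ∀ w ∈ turns alphabet relWords ++ turns alphabet [eqCore], evW ev w = 1 := by
    intro w hw
    rcases List.mem_append.1 hw with h | h
    · exact turnsP w h
    · refine turns_hold good (ws := [eqCore]) (by decide +kernel) ?_ w h
      intro u hu
      rw [List.mem_singleton.1 hu]
      exact eqCore_one
  have hI : EndNode.enum.Interp (subEv ev alphabet.eps EndNode.emb) ((1 : P) : P ⧸ genBy ev others) :=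
    Enum.interp_sub (A := alphabet) ev_one ev_inv (by decide +kernel) (by decide +kernel)
      (rels_of_check hknown (by decide +kernel)) (subs_of_check (seeds := []) (by simp) (by decide +kernel))
  have h := mem_of_fix (EndNode.loop0 hI)
  rw [show subEv ev alphabet.eps EndNode.emb = fun x => ev (EndNode.emb.getD x alphabet.eps) from rfl,
    ← evW_map, show (EndNode.word0.map fun x => EndNode.emb.getD x alphabet.eps) = [5] by decide +kernel,
    evW_cons, evW_nil, mul_one] at h
  exact h

end CfsgLib.Sporadic.Spider
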