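import Cfsg.Agent.Lib.Presented.Fi23Simple
import Cfsg.Agent.Lib.Sporadic.Spider.EndNode

/-!
In Y(5,2,3) with the spider relation the last node of the long arm is the central involution of the
sub-diagram of type E7 around the centre.
-/
set_option autoImplicit false
set_option maxRecDepth 8000

namespace CfsgLib.Sporadic.Spider

open CfsgLib.Presented Cfsg.Spor

/-- an alphabet with one involutory letter -/
def signAlphabet : Alphabet := ⟨1, .leaf 0x40⟩

/-- its values in the signs -/
def signEv (x : ℕ) : ℤˣ := if x = 0 then -1 else 1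

theorem exists_sign : ∃ π : P →* ℤˣ, ∀ w : List ℕ, (∀ x ∈ w, x < 11) →
    π (evW ev w) = evW signEv (List.replicate w.length 0) := by
  have hA : signAlphabet.Good signEv := ⟨by decide +kernel, by decide +kernel⟩
  have hknown : ∀ w ∈ [List.replicate 4 0, List.replicate 6 0, List.replicate 90 0], evW signEv w = 1 := by
    decide +kernel
  obtain ⟨φ, hφ⟩ := exists_rename (L := letters) (edges := edges) (extra := extra) letters_valid nodes_valid full
    extraWords_eq hA hknown (τ := List.replicate 11 0) (by decide +kernel)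
  refine ⟨φ, fun w hw => ?_⟩
  rw [hφ w hw]
  refine congrArg (evW signEv) ?_
  rw [← List.map_const']
  refine List.map_congr_left fun x hx => ?_
  rw [List.getD_eq_getElem _ _ (by simpa using hw x hx)]
  exact List.getElem_replicate _

/-- the sign -/
noncomputable def sign : P →* ℤˣ := exists_sign.choose

theorem sign_ev {x : ℕ} (hx : x < 11) : sign (ev x) = -1 := by
  have h := exists_sign.choose_spec [x] (by simpa using hx)
  simpa [evW, signEv, sign] using h

theorem sign_word {w : List ℕ} (hw : ∀ x ∈ w, x < 11) : sign (evW ev w) = evW signEv (List.replicate w.length 0) :=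
  exists_sign.choose_spec w hw

theorem sign_z12 : sign (evW ev z12) = -1 := by
  rw [sign_word (by decide +kernel)]
  decide +kernel

theorem sign_z31 : sign (evW ev z31) = -1 := by
  rw [sign_word (by decide +kernel)]
  decide +kernel

/-- the word of the central involution of Y(3,5,2) -/
noncomputable abbrev Z : Subgroup P := Subgroup.zpowers (evW ev z31)

theorem ev_generate : Subgroup.closure (ev '' Set.Iio 11) = (⊤ : Subgroup P) :=
  Letters.gen_top (L := letters) letters_valid nodes_valid full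

theorem Z_le_center : Z ≤ Subgroup.center P := by
  rw [Subgroup.zpowers_le, Subgroup.mem_center_iff]
  intro g
  have hg : g ∈ Subgroup.centralizer {evW ev z31} := by
    refine (Subgroup.closure_le _).2 ?_ (ev_generate.ge (Subgroup.mem_top g))
    rintro _ ⟨x, hx, rfl⟩
    exact Subgroup.mem_centralizer_singleton_iff.2 (z31_comm hx).eq
  exact Subgroup.mem_centralizer_singleton_iff.1 hg

instance : Z.Normal := ⟨fun n hn g => by
  rwa [Subgroup.mem_center_iff.1 (Z_le_center hn) g, mul_inv_cancel_right]⟩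

theorem mem_Z {g : P} (hg : g ∈ Z) : g = 1 ∨ g = evW ev z31 := by
  obtain ⟨k, rfl⟩ := Subgroup.mem_zpowers_iff.1 hg
  have h2 : evW ev z31 ^ (2 : ℤ) = 1 := by rw [zpow_two]; exact z_sq s31_ok z31_eq
  rcases Int.even_or_odd' k with ⟨m, rfl | rfl⟩
  · left; rw [zpow_mul, h2, one_zpow]
  · right; rw [zpow_add, zpow_mul, h2, one_zpow, one_mul, zpow_one]

/-- the letters of Fi23 -/
def fiNodes : List ℕ := [10, 9, 8, 0, 1, 2, 3, 4, 6, 7]

/-- the values in the quotient -/
noncomputable abbrev qev (x : ℕ) : P ⧸ Z := QuotientGroup.mk' Z (ev x)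

theorem qev_word (w : List ℕ) : QuotientGroup.mk' Z (evW ev w) = evW qev w := by
  rw [evW, map_list_prod, List.map_map]
  rfl

theorem qev_good : alphabet.Good qev :=
  good_of ((congrArg _ ev_one).trans (map_one _))
    (fun x hx => by rw [qev, qev, ← map_mul, ev_inv x hx, map_one]) (by decide +kernel)

theorem exists_fi : ∃ φ : Cfsg.Spor.Fi23 →* P ⧸ Z, ∀ w : List ℕ, (∀ x ∈ w, x < 10) →
    φ (evW Fi23Cosets.ev w) = QuotientGroup.mk' Z (evW ev (w.map fun x => fiNodes.getD x 11)) := by
  have hknown : ∀ w ∈ turns alphabet relWords ++ [wpow [10, 9, 8, 0, 1, 2, 6] 9], evW qev w = 1 := by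
    intro w hw
    rw [← qev_word]
    rcases List.mem_append.1 hw with h | h
    · rw [turnsP w h, map_one]
    · rw [List.mem_singleton.1 h]
      refine (QuotientGroup.eq_one_iff _).2 ?_
      have e := map_eq good turnsP s31_ok (u := wpow [6, 5, 4, 3, 2, 0, 1] 9) (v := zWord) (by decide +kernel)
      rw [show (wpow [6, 5, 4, 3, 2, 0, 1] 9).map (fun a => s31.getD a 0) = wpow [10, 9, 8, 0, 1, 2, 6] 9 by
        decide +kernel, ← z31_eq] at e
      rw [e]
      exact Subgroup.mem_zpowers _
  obtain ⟨φ, hφ⟩ := exists_rename (L := Fi23Cosets.letters) (edges := Fi23.edges) (extra := Fi23.extra)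
    Fi23Cosets.letters_valid Fi23Cosets.nodes_valid Fi23Cosets.full
    (xw := [wpow [3, 2, 1, 3, 4, 5, 3, 8, 9] 10, wpow [0, 1, 2, 3, 4, 5, 8] 9]) (by decide +kernel)
    qev_good hknown (τ := fiNodes) (by decide +kernel)
  exact ⟨φ, fun w hw => by rw [qev_word]; exact hφ w hw⟩

/-- the map of Fi23 -/
noncomputable def fi : Cfsg.Spor.Fi23 →* P ⧸ Z := exists_fi.choose

theorem fi_word {w : List ℕ} (hw : ∀ x ∈ w, x < 10) :
    fi (evW Fi23Cosets.ev w) = QuotientGroup.mk' Z (evW ev (w.map fun x => fiNodes.getD x 11)) :=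
  exists_fi.choose_spec w hw

theorem fi_ev {x : ℕ} (hx : x < 10) : fi (Fi23Cosets.ev x) = QuotientGroup.mk' Z (ev (fiNodes.getD x 11)) := by
  simpa [evW] using fi_word (w := [x]) (by simpa using hx)

theorem eq_of_braid_comm {G : Type*} [Group G] {x y : G} (hb : x * y * x = y * x * y) (hc : Commute x y) :
    x = y := by
  rw [hc.eq, mul_assoc y x y, hc.eq, mul_assoc y x x, ← mul_assoc y y x] at hb
  have h2 : y * (x * x) = y * (y * x) := by rw [hb, mul_assoc]
  exact mul_right_cancel (mul_left_cancel h2)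

theorem braid_eq {x y : ℕ} {t : P} (hx : x < 11) (hy : y < 11)
    (h : (turns alphabet relWords).contains [x, y, x, y, x, y] = true) (ht : ev x = t)
    (hc : Commute t (ev y)) : ev y = t :=
  (eq_of_braid_comm (ev_braid hx hy h) (ht ▸ hc)).symm.trans ht

theorem z12_of_all {t : P} (h : ∀ x < 11, ev x = t) : evW ev z12 = t := by
  have hsq : t * t = 1 := by rw [← h 0 (by omega)]; exact ev_sq (by omega)
  have hl : z12.length = 2 * 31 + 1 := by decide +kernel
  rw [evW, List.map_congr_left (g := fun _ => t) fun x hx => h x ?_, List.map_const', List.prod_replicate, hl,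
    pow_succ, pow_mul, sq, hsq, one_pow, one_mul]
  have : ∀ x ∈ z12, x < 11 := by decide +kernel
  exact this x hx

theorem all_of_central (hc : ∀ x < 11, Commute (ev 5) (ev x)) : ∀ x < 11, ev x = ev 5 := by
  have e4 := braid_eq (y := 4) (by omega) (by omega) (by decide +kernel) rfl (hc 4 (by omega))
  have e3 := braid_eq (y := 3) (by omega) (by omega) (by decide +kernel) e4 (hc 3 (by omega))
  have e2 := braid_eq (y := 2) (by omega) (by omega) (by decide +kernel) e3 (hc 2 (by omega))
  have e1 := braid_eq (y := 1) (by omega) (by omega) (by decide +kernel) e2 (hc 1 (by omega))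
  have e0 := braid_eq (y := 0) (by omega) (by omega) (by decide +kernel) e1 (hc 0 (by omega))
  have e6 := braid_eq (y := 6) (by omega) (by omega) (by decide +kernel) e0 (hc 6 (by omega))
  have e8 := braid_eq (y := 8) (by omega) (by omega) (by decide +kernel) e0 (hc 8 (by omega))
  have e7 := braid_eq (y := 7) (by omega) (by omega) (by decide +kernel) e6 (hc 7 (by omega))
  have e9 := braid_eq (y := 9) (by omega) (by omega) (by decide +kernel) e8 (hc 9 (by omega))
  have e10 := braid_eq (y := 10) (by omega) (by omega) (by decide +kernel) e9 (hc 10 (by omega))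
  intro x hx
  have : x = 0 ∨ x = 1 ∨ x = 2 ∨ x = 3 ∨ x = 4 ∨ x = 5 ∨ x = 6 ∨ x = 7 ∨ x = 8 ∨ x = 9 ∨ x = 10 := by omega
  rcases this with rfl | rfl | rfl | rfl | rfl | rfl | rfl | rfl | rfl | rfl | rfl <;> first | rfl | assumption

theorem big_orbits : (Fi23Simple.orbits.all fun O => Nat.blt 1 (bitCount O.bits Fi23Cert.rep.N)) = true := by
  decide +kernel

theorem orbits_ok : (Fi23Simple.orbits.all fun O =>
    orbitOK Fi23Cert.rep Fi23Cosets.hWords O.rep O.rounds O.bits) = true := by
  decide +kernel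

theorem orbits_cover : coverOK Fi23Cert.rep.N Fi23Simple.orbits 1 = true := by decide +kernel

theorem coverOK_some {n : ℕ} : ∀ (l : List HOrbit) (acc : ℕ), coverOK n l acc = true → ∀ i, i < n →
    acc.testBit i = true ∨ ∃ O ∈ l, O.bits.testBit i = true
  | [], acc, h, i, hi => by
    rw [Nat.eq_of_beq_eq_true h, Vec.testBit_ones]
    exact Or.inl (by simpa using hi)
  | O :: l, acc, h, i, hi => by
    simp only [coverOK, Vec.force_eq, Bool.and_eq_true] at h
    rcases coverOK_some l _ h.2 i hi with h1 | ⟨Q, hQ, h1⟩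
    · have e : (Nat.lor acc O.bits).testBit i = (acc.testBit i || O.bits.testBit i) := Nat.testBit_or acc O.bits i
      rw [e, Bool.or_eq_true] at h1
      rcases h1 with h1 | h1
      · exact Or.inl h1
      · exact Or.inr ⟨O, List.mem_cons_self, h1⟩
    · exact Or.inr ⟨Q, List.mem_cons_of_mem _ hQ, h1⟩

/-- What commutes with the point stabiliser lies in it. -/
theorem mem_H_of_commute {g : Cfsg.Spor.Fi23} (hg : ∀ h ∈ Fi23Cosets.H, Commute g h) : g ∈ Fi23Cosets.H := by
  apply Fi23Simple.mem_H_of_fix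
  set z : Fin Fi23Cert.rep.N := ⟨0, VCert.pos Fi23Cert.cert_ok⟩
  set i := Fi23Cosets.phi g z with hi
  have hfix : ∀ h ∈ Fi23Cosets.H, Fi23Cosets.phi h i = i := fun h hh => by
    rw [hi, ← Equiv.Perm.mul_apply, ← map_mul, ← (hg h hh).eq, map_mul, Equiv.Perm.mul_apply,
      Fi23Cosets.H_fix h hh]
  rcases coverOK_some _ 1 orbits_cover i i.2 with h | ⟨O, hO, hbit⟩
  · exact Fin.ext (VCert.one_bit h)
  · exfalso
    have ho := List.all_eq_true.1 orbits_ok O hO
    have hrep : O.rep < Fi23Cert.rep.N := by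
      simp only [orbitOK, Bool.and_eq_true, Nat.blt_eq] at ho
      exact ho.1.1
    have horb := orbit_eq_of_ok Fi23Cosets.rep_valid ho Fi23Cosets.phi Fi23Cosets.phi_ev Fi23Cosets.H_eq hrep
    obtain ⟨h₀, hh₀, e₀⟩ := (horb i).2 hbit
    have hri : (⟨O.rep, hrep⟩ : Fin Fi23Cert.rep.N) = i := by
      refine (Fi23Cosets.phi h₀).injective ?_
      rw [e₀, hfix h₀ hh₀]
    have hbig := List.all_eq_true.1 big_orbits O hO
    rw [Nat.blt_eq, bitCount_eq] at hbig
    obtain ⟨a, ha, b, hb, hab⟩ := Finset.one_lt_card.1 hbig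
    simp only [Finset.mem_filter, Finset.mem_range] at ha hb
    obtain ⟨ka, hka, ea⟩ := (horb ⟨a, ha.1⟩).2 ha.2
    obtain ⟨kb, hkb, eb⟩ := (horb ⟨b, hb.1⟩).2 hb.2
    rw [hri, hfix _ hka] at ea
    rw [hri, hfix _ hkb] at eb
    exact hab (congrArg Fin.val (ea.symm.trans eb))

/-- The centraliser of the point stabiliser. -/
theorem eq_of_commute {g : Cfsg.Spor.Fi23} (hg : ∀ h ∈ Fi23Cosets.H, Commute g h) :
    g = 1 ∨ g = evW Fi23Cosets.ev Fi23Simple.zw := by
  have hgH := mem_H_of_commute hg
  have hk : (⟨g, hgH⟩ : Fi23Cosets.H) ∈ Fi23Simple.toFi22.ker := by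
    rw [← Fi23Simple.center_eq, Subgroup.mem_center_iff]
    exact fun h => Subtype.ext (hg h.1 h.2).eq.symm
  let u : Fi23Simple.toFi22.ker := ⟨⟨g, hgH⟩, hk⟩
  let v : Fi23Simple.toFi22.ker := ⟨⟨_, Fi23Simple.zw_mem⟩, Fi23Simple.toFi22_eq_one.2 Fi23Simple.psi_zw⟩
  have hv : v ≠ 1 := fun h =>
    Fi23Simple.zw_ne (congrArg (fun q : Fi23Simple.toFi22.ker => ((q : Fi23Cosets.H) : Cfsg.Spor.Fi23)) h)
  obtain ⟨a, b, hab, huniv⟩ := Nat.card_eq_two_iff.1 Fi23Simple.card_ker
  have hm : ∀ q : Fi23Simple.toFi22.ker, q = a ∨ q = b := fun q => by simpa [← huniv] using Set.mem_univ q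
  have huv : u = 1 ∨ u = v := by
    rcases hm u with e1 | e1 <;> rcases hm v with e2 | e2 <;> rcases hm 1 with e3 | e3 <;>
      first | exact Or.inr (e1.trans e2.symm) | exact Or.inl (e1.trans e3.symm) | exact absurd (e2.trans e3.symm) hv
  exact huv.imp (congrArg fun q : Fi23Simple.toFi22.ker => ((q : Fi23Cosets.H) : Cfsg.Spor.Fi23))
    (congrArg fun q : Fi23Simple.toFi22.ker => ((q : Fi23Cosets.H) : Cfsg.Spor.Fi23))

theorem end_collapse (h : ∀ x < 11, x ≠ 5 → ev x ∈ Z) : ev 5 = evW ev z12 := by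
  have hall : ∀ x < 11, x ≠ 5 → ev x = evW ev z31 := fun x hx hne => by
    refine (mem_Z (h x hx hne)).resolve_left fun e => ?_
    have := sign_ev hx
    rw [e, map_one] at this
    exact absurd this (by decide)
  have e4 := hall 4 (by omega) (by omega)
  have e5 : ev 5 = evW ev z31 :=
    braid_eq (by omega) (by omega) (by decide +kernel) e4 (z31_comm (x := 5) (by omega)).symm
  rw [z12_of_all (t := evW ev z31) fun x hx => ?_, e5]
  rcases eq_or_ne x 5 with rfl | hne
  · exact e5
  · exact hall x hx hne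

/-- The end node of the long arm. -/
theorem end_node : ev 5 = evW ev z12 ∧ ev 5 = evW ev z13 := by
  suffices h : ev 5 = evW ev z12 from ⟨h, h.trans arm_eq.1.symm⟩
  rcases Fi23Simple.simple.eq_bot_or_eq_top_of_normal fi.ker inferInstance with hker | hker
  swap
  · apply end_collapse
    intro x hx hne
    obtain ⟨k, hk, hkx⟩ : ∃ k < 10, fiNodes.getD k 11 = x := by
      have : ((List.range 11).all fun x => Nat.beq x 5 || (List.range 10).any fun k => Nat.beq (fiNodes.getD k 11) x) = true := by
        decide +kernel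
      have h1 := List.all_eq_true.1 this x (List.mem_range.2 hx)
      rw [Bool.or_eq_true] at h1
      obtain ⟨k, hk, e⟩ := List.any_eq_true.1 (h1.resolve_left fun h => hne (Nat.eq_of_beq_eq_true h))
      exact ⟨k, List.mem_range.1 hk, Nat.eq_of_beq_eq_true e⟩
    have h1 : fi (Fi23Cosets.ev k) = 1 := MonoidHom.mem_ker.1 (hker ▸ Subgroup.mem_top _)
    rw [fi_ev hk, hkx] at h1
    exact (QuotientGroup.eq_one_iff _).1 h1
  have hinj : Function.Injective fi := (MonoidHom.ker_eq_bot_iff _).1 hker
  have hrange : ∀ g ∈ genBy ev others, QuotientGroup.mk' Z g ∈ fi.range := by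
    intro g hg
    refine (Subgroup.closure_le (fi.range.comap (QuotientGroup.mk' Z))).2 ?_ hg
    rintro _ ⟨x, hx, rfl⟩
    have : (others.all fun x => (List.range 10).any fun k => Nat.beq (fiNodes.getD k 11) x) = true := by
      decide +kernel
    obtain ⟨k, hk, e⟩ := List.any_eq_true.1 (List.all_eq_true.1 this x hx)
    refine ⟨Fi23Cosets.ev k, ?_⟩
    rw [fi_ev (List.mem_range.1 hk), Nat.eq_of_beq_eq_true e]
  have hz12mem : evW ev z12 ∈ genBy ev others := by
    refine list_prod_mem fun g hg => ?_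
    obtain ⟨y, hy, rfl⟩ := List.mem_map.1 hg
    exact mem_genBy ev ((by decide +kernel : ∀ y ∈ z12, y ∈ others) y hy)
  obtain ⟨g, hg⟩ := hrange _ (mul_mem endNode_mem hz12mem)
  have hcomm : ∀ k ∈ Fi23Simple.hl, Commute g (Fi23Cosets.ev k) := by
    intro k hk
    have hk10 : k < 10 := (by decide : ∀ k ∈ Fi23Simple.hl, k < 10) k hk
    apply hinj
    rw [map_mul, map_mul, hg, fi_ev hk10, ← map_mul, ← map_mul]
    refine congrArg _ (Commute.mul_left ?_ ?_).eq
    · exact ev_comm (by omega) ((by decide : ∀ k ∈ Fi23Simple.hl, fiNodes.getD k 11 < 11) k hk)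
        ((by decide +kernel : ∀ k ∈ Fi23Simple.hl,
          (turns alphabet relWords).contains [5, fiNodes.getD k 11, 5, fiNodes.getD k 11] = true) k hk)
    · exact (z12_comm ((by decide : ∀ k ∈ Fi23Simple.hl, fiNodes.getD k 11 ∈ [0, 1, 2, 3, 5, 6, 7, 8, 9, 10]) k hk)).symm
  have hcommH : ∀ h ∈ Fi23Cosets.H, Commute g h := by
    intro h hh
    rw [Fi23Order.H_eq_genBy] at hh
    refine (Subgroup.mem_centralizer_singleton_iff.1 ((Subgroup.closure_le (Subgroup.centralizer {g})).2 ?_ hh)).symm
    rintro _ ⟨k, hk, rfl⟩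
    exact Subgroup.mem_centralizer_singleton_iff.2 (hcomm k hk).symm.eq
  have hs : sign (ev 5) = -1 := sign_ev (by omega)
  have hz2 : evW ev z12 * evW ev z12 = 1 := z_sq s12_ok z12_eq
  rcases eq_of_commute hcommH with rfl | rfl
  · rw [map_one] at hg
    have hmem : ev 5 * evW ev z12 ∈ Z := (QuotientGroup.eq_one_iff _).1 hg.symm
    rcases mem_Z hmem with e | e
    · rw [eq_inv_of_mul_eq_one_left e, inv_eq_of_mul_eq_one_left hz2]
    · have h1 := congrArg sign e
      rw [map_mul, hs, sign_z12, sign_z31] at h1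
      exact absurd h1 (by decide)
  · have hz : fi (evW Fi23Cosets.ev Fi23Simple.zw) = QuotientGroup.mk' Z (evW ev z12) := by
      rw [fi_word (by decide +kernel)]
      refine congrArg _ ?_
      have e := map_eq good turnsP s13_ok (u := wpow [0, 2, 3, 4, 5, 6, 1] 9) (v := zWord) (by decide +kernel)
      rw [show (wpow [0, 2, 3, 4, 5, 6, 1] 9).map (fun a => s13.getD a 0) =
        Fi23Simple.zw.map fun x => fiNodes.getD x 11 by decide +kernel, ← z13_eq, arm_eq.1] at e
      exact e
    have hmem : ev 5 ∈ Z := by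
      refine (QuotientGroup.eq_one_iff _).1 ?_
      have h1 := hg.symm.trans hz
      rw [map_mul, mul_eq_right] at h1
      exact h1
    have e5 : ev 5 = evW ev z31 := (mem_Z hmem).resolve_left fun e => by
      rw [e, map_one] at hs
      exact absurd hs (by decide)
    exact (z12_of_all (all_of_central fun x hx => e5 ▸ (z31_comm hx).symm)).symm

end CfsgLib.Sporadic.Spider
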