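import Cfsg.Agent.Lib.Sporadic.Spider.Main
import Cfsg.Prelude.Def_Spor_M

/-!
The spider relation on Y(5,5,5) implies the relations of the end nodes.
-/
set_option autoImplicit false
set_option maxRecDepth 8000

namespace CfsgLib.Sporadic.Spider.YFive

open CfsgLib.Presented Cfsg.Spor

/-- numbering of the nodes -/
def idx : Bimonster.Gen → ℕ
  | .a => 0 | .b1 => 1 | .c1 => 2 | .d1 => 3 | .e1 => 4 | .f1 => 5
  | .b2 => 6 | .c2 => 7 | .d2 => 8 | .e2 => 9 | .f2 => 10
  | .b3 => 11 | .c3 => 12 | .d3 => 13 | .e3 => 14 | .f3 => 15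

/-- reading letters back -/
def nodeOf : ℕ → Bimonster.Gen × Bool
  | 0 => (.a, true) | 1 => (.b1, true) | 2 => (.c1, true) | 3 => (.d1, true) | 4 => (.e1, true) | 5 => (.f1, true)
  | 6 => (.b2, true) | 7 => (.c2, true) | 8 => (.d2, true) | 9 => (.e2, true) | 10 => (.f2, true)
  | 11 => (.b3, true) | 12 => (.c3, true) | 13 => (.d3, true) | 14 => (.e3, true) | _ => (.f3, true)

/-- sixteen involutory letters -/
def alphabet16 : Alphabet := ⟨16, .leaf 0x103ce34c2ca2481c61440c2040⟩

/-- the letters -/
def letters16 : Letters Bimonster.Gen := ⟨alphabet16, idx, nodeOf,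
  [.a, .b1, .c1, .d1, .e1, .f1, .b2, .c2, .d2, .e2, .f2, .b3, .c3, .d3, .e3, .f3]⟩

theorem valid16 : letters16.valid = true := by decide +kernel
theorem nodes16 : letters16.nodesValid Bimonster.edges = true := by decide +kernel
theorem full16 : letters16.Full := fun g => by cases g <;> decide

/-- the spider relator -/
abbrev spider : List (FreeGroup Bimonster.Gen) :=
  [(Bimonster.a * Bimonster.b1 * Bimonster.c1 * Bimonster.a * Bimonster.b2 * Bimonster.c2 * Bimonster.a *
    Bimonster.b3 * Bimonster.c3) ^ 10]

/-- the group presented by the Coxeter relations and the spider relation -/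
abbrev Y : Type := CoxPresented Bimonster.Gen Bimonster.edges spider

/-- values of the letters -/
noncomputable abbrev yev : ℕ → Y := letters16.ev fun g => PresentedGroup.of g

/-- the relator words -/
noncomputable def relWords16 : List (List ℕ) :=
  letters16.coxWords Bimonster.edges ++ [wpow [0, 1, 2, 0, 6, 7, 0, 11, 12] 10]

theorem spiderWords : letters16.extraWords spider = [wpow [0, 1, 2, 0, 6, 7, 0, 11, 12] 10] := by decide +kernel

theorem rels16 : ∀ w ∈ relWords16, evW yev w = 1 := by
  rw [relWords16, ← spiderWords]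
  exact Letters.rels_hold valid16 nodes16 full16

theorem good16 : alphabet16.Good yev :=
  good_of (Letters.ev_eps (L := letters16)) (Letters.ev_inv valid16 (Letters.of_sq nodes16)) (by decide +kernel)

theorem turns16 : ∀ w ∈ turns alphabet16 relWords16, evW yev w = 1 :=
  turns_hold good16 (by decide +kernel) rels16

/-- the end node equals both words, transported along a renaming -/
theorem transport {τ : List ℕ}
    (h : renameOK letters edges [wpow [0, 1, 2, 0, 6, 7, 0, 8, 9] 10] alphabet16 (turns alphabet16 relWords16) τ = true) :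
    yev (τ.getD 5 16) = evW yev (z12.map fun x => τ.getD x 16) ∧
      yev (τ.getD 5 16) = evW yev (z13.map fun x => τ.getD x 16) := by
  obtain ⟨φ, hφ⟩ := exists_rename letters_valid nodes_valid full extraWords_eq good16 turns16 h
  have h5 := hφ [5] (by decide)
  rw [evW_cons, evW_nil, mul_one, List.map_cons, List.map_nil, evW_cons, evW_nil, mul_one] at h5
  exact ⟨h5.symm.trans ((congrArg φ end_node.1).trans (hφ z12 (by decide +kernel))),
    h5.symm.trans ((congrArg φ end_node.2).trans (hφ z13 (by decide +kernel)))⟩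

theorem relator_one {f : ℕ} {w : List ℕ} (hw : (w.all fun x => Nat.ble x 16) = true) (h : yev f = evW yev w) :
    evW yev (f :: invWord alphabet16 w) = 1 := by
  rw [evW_cons, evW_invWord good16, h, mul_inv_cancel]
  intro x hx
  have := List.all_eq_true.1 hw x hx
  rwa [Nat.ble_eq] at this

theorem extra_hold : ∀ r ∈ Bimonster.extra,
    PresentedGroup.mk (coxRelators Bimonster.edges ∪ {r | r ∈ spider}) r = 1 := by
  intro r hr
  rw [← Letters.lift_evW valid16 nodes16 full16 r]
  have h1 := transport (τ := [0, 1, 2, 3, 4, 5, 6, 7, 11, 12, 13]) (by decide +kernel)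
  have h2 := transport (τ := [0, 6, 7, 8, 9, 10, 11, 12, 1, 2, 3]) (by decide +kernel)
  have h3 := transport (τ := [0, 11, 12, 13, 14, 15, 1, 2, 6, 7, 8]) (by decide +kernel)
  have hlist : letters16.extraWords Bimonster.extra =
      [wpow [0, 1, 2, 0, 6, 7, 0, 11, 12] 10,
       5 :: invWord alphabet16 (z12.map fun x => [0, 1, 2, 3, 4, 5, 6, 7, 11, 12, 13].getD x 16),
       5 :: invWord alphabet16 (z13.map fun x => [0, 1, 2, 3, 4, 5, 6, 7, 11, 12, 13].getD x 16),
       10 :: invWord alphabet16 (z13.map fun x => [0, 6, 7, 8, 9, 10, 11, 12, 1, 2, 3].getD x 16),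
       10 :: invWord alphabet16 (z12.map fun x => [0, 6, 7, 8, 9, 10, 11, 12, 1, 2, 3].getD x 16),
       15 :: invWord alphabet16 (z12.map fun x => [0, 11, 12, 13, 14, 15, 1, 2, 6, 7, 8].getD x 16),
       15 :: invWord alphabet16 (z13.map fun x => [0, 11, 12, 13, 14, 15, 1, 2, 6, 7, 8].getD x 16)] := by
    decide +kernel
  have hw : r.toWord.map letters16.letter ∈ letters16.extraWords Bimonster.extra := List.mem_map.2 ⟨r, hr, rfl⟩
  rw [hlist] at hw
  simp only [List.mem_cons, List.not_mem_nil, or_false] at hw
  rcases hw with e | e | e | e | e | e | e <;> rw [e]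
  · exact rels16 _ (List.mem_append.2 (Or.inr List.mem_cons_self))
  · exact relator_one (by decide +kernel) h1.1
  · exact relator_one (by decide +kernel) h1.2
  · exact relator_one (by decide +kernel) h2.2
  · exact relator_one (by decide +kernel) h2.1
  · exact relator_one (by decide +kernel) h3.1
  · exact relator_one (by decide +kernel) h3.2

end CfsgLib.Sporadic.Spider.YFive
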